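import Groth.Agent.ResPropLib.AmplePC
import Groth.Agent.DRingLib.PCohMore

/-!
# Pseudo-coherence along a finite free algebra
-/

set_option autoImplicit false
set_option linter.style.haveILetI false
set_option backward.isDefEq.respectTransparency false
set_option backward.isDefEq.respectTransparency.types false

universe u

open CategoryTheory CategoryTheory.Limits
open CategoryTheory.Pretriangulated (Triangle)
open HomologicalComplex CochainComplex
open scoped ZeroObject

attribute [local instance] HasDerivedCategory.standard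

namespace PCResLib

open Groth.Agent.DRingLib

variable (A : Type u) [CommRing A] (R : Type u) [Ring R] [Algebra A R]

/-- Restriction of scalars. -/
noncomputable abbrev G : ModuleCat.{u} R ⥤ ModuleCat.{u} A := ModuleCat.restrictScalars.{u} (algebraMap A R)

variable [PreservesFiniteLimits (G A R)] [PreservesFiniteColimits (G A R)]

/-- Cohomology and restriction. -/
noncomputable def hnIso (C : CochainComplex (ModuleCat.{u} R) ℤ) (n : ℤ) :
    (Hn A n).obj ((G A R).mapDerivedCategory.obj (DerivedCategory.Q.obj C)) ≅ (G A R).obj (C.homology n) :=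
  (Hn A n).mapIso ((G A R).mapDerivedCategoryFactors.app C) ≪≫
    (DerivedCategory.homologyFunctorFactors (ModuleCat.{u} A) n).app _ ≪≫ (C.sc n).mapHomologyIso (G A R)

theorem isZero_of_restrict {M : ModuleCat.{u} R} (h : IsZero ((G A R).obj M)) : IsZero M := by
  haveI : Subsingleton M := (ModuleCat.subsingleton_of_isZero h : Subsingleton ((G A R).obj M))
  exact ModuleCat.isZero_of_subsingleton M

theorem finite_of_restrict {M : ModuleCat.{u} R} (h : Module.Finite A ((G A R).obj M)) : Module.Finite R M := by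
  letI : Module A M := Module.compHom M (algebraMap A R)
  haveI : IsScalarTower A R M := IsScalarTower.of_algebraMap_smul fun _ _ => rfl
  haveI : Module.Finite A M := h
  exact Module.Finite.of_restrictScalars_finite A R M

variable [Module.Finite A R] [Module.Free A R]

theorem finiteFree_restrict {M : ModuleCat.{u} R} (h : Module.Finite R M ∧ Module.Free R M) :
    Module.Finite A ((G A R).obj M) ∧ Module.Free A ((G A R).obj M) := by
  letI : Module A M := Module.compHom M (algebraMap A R)
  haveI : IsScalarTower A R M := IsScalarTower.of_algebraMap_smul fun _ _ => rfl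
  haveI := h.1
  haveI := h.2
  exact ⟨(Module.Finite.trans R M : Module.Finite A M), (Module.Free.trans (R := A) (S := R) (M := M) : Module.Free A M)⟩

theorem isBddFree_restrict {E : CochainComplex (ModuleCat.{u} R) ℤ} {a b : ℤ}
    (hz : ∀ i, (i < a ∨ b < i) → IsZero (E.X i)) (hf : ∀ i, Module.Finite R (E.X i) ∧ Module.Free R (E.X i)) :
    IsBddFree (((G A R).mapHomologicalComplex (ComplexShape.up ℤ)).obj E) :=
  ⟨a, b, fun i hi => (G A R).map_isZero (hz i hi), fun i => finiteFree_restrict A R (hf i)⟩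

/-- The main induction. -/
theorem exists_resolution (M : DerivedCategory (ModuleCat.{u} R))
    (hM : DRing.IsPseudoCoherent' A ((G A R).mapDerivedCategory.obj M)) :
    ∃ (F : CochainComplex (ModuleCat.{u} R) ℤ) (b : ℤ), (∀ i : ℤ, b < i → IsZero (F.X i)) ∧
      (∀ i : ℤ, Module.Finite R (F.X i) ∧ Module.Free R (F.X i)) ∧ Nonempty (DerivedCategory.Q.obj F ≅ M) := by
  let P := DerivedCategory.Q.objPreimage M
  let e : DerivedCategory.Q.obj P ≅ M := DerivedCategory.Q.objObjPreimageIso M
  let T := (G A R).mapDerivedCategory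
  obtain ⟨E₀, b, hb, hf₀, ⟨e₀⟩⟩ := id hM
  have hPb : ∀ i, b < i → P.ExactAt i := fun i hi => by
    rw [exactAt_iff_isZero_homology]
    refine isZero_of_restrict A R (IsZero.of_iso ?_ (hnIso A R P i).symm)
    exact (isZero_Hn_Q E₀ i (hb i hi)).of_iso ((Hn A i).mapIso (T.mapIso e ≪≫ e₀.symm))
  let Q : ModuleCat.{u} R → Prop := fun N => Module.Finite R N ∧ Module.Free R N
  have hQi : ∀ ⦃N N' : ModuleCat.{u} R⦄, (N ≅ N') → Q N → Q N' := fun N N' i h => by
    haveI := h.1
    haveI := h.2
    exact ⟨Module.Finite.equiv i.toLinearEquiv, Module.Free.of_equiv i.toLinearEquiv⟩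
  have hQ0 : ∀ ⦃N : ModuleCat.{u} R⦄, IsZero N → Q N := fun N h => by
    haveI : Subsingleton N := ModuleCat.subsingleton_of_isZero h
    exact ⟨inferInstance, inferInstance⟩
  let Stage : ℕ → Type (u + 1) := fun d => {X : Σ E : CochainComplex (ModuleCat.{u} R) ℤ, (E ⟶ P) //
    (∀ i, (i < b + 1 - d ∨ b < i) → IsZero (X.1.X i)) ∧ (∀ i, Q (X.1.X i)) ∧
      ∀ i, b + 1 - (d : ℤ) ≤ i → (mappingCone X.2).ExactAt i}
  have step : ∀ (d : ℕ) (S : Stage d), ∃ (S' : Stage (d + 1)) (χ : S.1.1 ⟶ S'.1.1),
      χ ≫ S'.1.2 = S.1.2 ∧ ∀ i, b + 1 - (d : ℤ) ≤ i → IsIso (χ.f i) := by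
    rintro d ⟨⟨E, φ⟩, hz, hQ, hC⟩
    obtain ⟨m, hm⟩ : ∃ m, m = b + 1 - (d : ℤ) := ⟨_, rfl⟩
    rw [← hm] at hC
    let C := mappingCone φ
    haveI : Module.Finite R (C.homology (m - 1)) := by
      have hpc : DRing.IsPseudoCoherent A (m - 1) (T.obj (DerivedCategory.Q.obj C)) :=
        isPseudoCoherent_obj₃ _ (T.map_distinguished _ ((DerivedCategory.mem_distTriang_iff
          (DerivedCategory.Q.mapTriangle.obj (mappingCone.triangle φ))).2 ⟨_, _, φ, ⟨Iso.refl _⟩⟩)) (m - 1)
          (isPseudoCoherent_of_iso ((G A R).mapDerivedCategoryFactors.app E).symm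
            (isPseudoCoherent_bddFree (isBddFree_restrict A R (fun i hi => hz i (by omega)) hQ) _))
          (isPseudoCoherent_of_iso (T.mapIso e).symm ((isPseudoCoherent'_iff_forall).1 hM _))
      have hfin := finite_of_isPseudoCoherent hpc fun i hi =>
        ((G A R).map_isZero ((exactAt_iff_isZero_homology C i).1 (hC i (by omega)))).of_iso (hnIso A R C i)
      exact finite_of_restrict A R (Module.Finite.equiv (hnIso A R C (m - 1)).toLinearEquiv)
    obtain ⟨k, g, hg⟩ := Module.Finite.exists_fin' R (C.homology (m - 1))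
    have hπ : Function.Surjective (C.homologyπ (m - 1)).hom := (ModuleCat.epi_iff_surjective _).1 inferInstance
    obtain ⟨l₀, hl₀⟩ := Module.projective_lifting_property (C.homologyπ (m - 1)).hom g hπ
    let l : ModuleCat.of R (Fin k → R) ⟶ C.cycles (m - 1) := ModuleCat.ofHom l₀
    haveI : Epi (l ≫ C.homologyπ (m - 1)) := by
      rw [ModuleCat.epi_iff_surjective]
      intro y
      obtain ⟨x, rfl⟩ := hg y
      exact ⟨x, congr($hl₀ x)⟩
    obtain ⟨ψ, φ', h', -, hcomp⟩ := ResPropLib.exists_kill φ m hC l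
    have hiso : ∀ i, i ≠ m - 1 → IsIso ((mappingCone.inr ψ).f i) := fun i hi =>
      ResPropLib.isIso_inr_f ψ i (HomologicalComplex.isZero_single_obj_X _ _ _ _ (by omega))
    refine ⟨⟨⟨mappingCone ψ, φ'⟩, fun i hi => ?_, fun i => ?_, fun i hi => h' i (by omega)⟩,
      mappingCone.inr ψ, hcomp, fun i hi => hiso i (by omega)⟩
    · haveI := hiso i (by omega)
      exact (hz i (by omega)).of_iso (asIso ((mappingCone.inr ψ).f i)).symm
    · by_cases hi : i = m - 1
      · subst hi
        haveI := ResPropLib.isIso_inl_v ψ m (m - 1) (by omega) (hz _ (by omega))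
        exact hQi ((HomologicalComplex.singleObjXSelf (ComplexShape.up ℤ) m _).symm ≪≫
          asIso ((mappingCone.inl ψ).v m (m - 1) _)) ⟨inferInstance, inferInstance⟩
      · haveI := hiso i hi
        exact hQi (asIso ((mappingCone.inr ψ).f i)) (hQ i)
  choose next χ hcomp hχ using step
  have hz : ∀ i, IsZero ((0 : CochainComplex (ModuleCat.{u} R) ℤ).X i) := fun i =>
    Functor.map_isZero (HomologicalComplex.eval _ _ i) (isZero_zero _)
  let S₀ : Stage 0 := ⟨⟨0, 0⟩, fun i _ => hz i, fun i => hQ0 (hz i), fun i hi => by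
    haveI := ResPropLib.isIso_inr_f (0 : (0 : CochainComplex (ModuleCat.{u} R) ℤ) ⟶ P) (i - 1) (hz _)
    haveI := ResPropLib.isIso_inr_f (0 : (0 : CochainComplex (ModuleCat.{u} R) ℤ) ⟶ P) i (hz _)
    haveI := ResPropLib.isIso_inr_f (0 : (0 : CochainComplex (ModuleCat.{u} R) ℤ) ⟶ P) (i + 1) (hz _)
    exact ResPropLib.exactAt_of_isIso (mappingCone.inr (0 : (0 : CochainComplex (ModuleCat.{u} R) ℤ) ⟶ P)) i
      (hPb i (by simp at hi; omega))⟩
  let S : ∀ d, Stage d := fun d => Nat.rec S₀ (fun d S => next d S) d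
  obtain ⟨F, ψ, hψ, hFb, hFQ⟩ := ResPropLib.exists_limit_resolution Q hQi b
    (fun d => (S d).1.1) (fun d => (S d).1.2) (fun d => χ d (S d)) (fun d => hcomp d (S d)) (fun d => hχ d (S d))
    (fun d i hi => (S d).2.1 i (Or.inr hi)) (fun d => (S d).2.2.1) (fun d => (S d).2.2.2)
  haveI : IsIso (DerivedCategory.Q.map ψ) := (Pretriangulated.Triangle.isZero₃_iff_isIso₁ _
    ((DerivedCategory.mem_distTriang_iff (DerivedCategory.Q.mapTriangle.obj (mappingCone.triangle ψ))).2
      ⟨_, _, ψ, ⟨Iso.refl _⟩⟩)).1 ((IsZero.iff_id_eq_zero _).2 (by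
    haveI : IsIso (0 : DerivedCategory.Q.obj (mappingCone ψ) ⟶ 0) := (DerivedCategory.isIso_iff _ _).2 fun n =>
      isIso_of_source_target_iso_zero _
        (((exactAt_iff_isZero_homology _ n).1 (hψ n)).of_iso
          ((DerivedCategory.homologyFunctorFactors _ n).app _)).isoZero
        (Functor.map_isZero _ (isZero_zero _)).isoZero
    exact ((isZero_zero _).of_iso (asIso (0 : DerivedCategory.Q.obj (mappingCone ψ) ⟶ 0))).eq_of_src _ _))
  exact ⟨F, b, hFb, hFQ, ⟨asIso (DerivedCategory.Q.map ψ) ≪≫ e⟩⟩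

end PCResLib
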